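import Mathlib
import Groth.Agent.S4568

/-!
# Auxiliary algebra for the Mori–Nagata theorem
-/

set_option autoImplicit false

open scoped WithZero TensorProduct
open Polynomial

universe u

namespace MoriNagata

/-- The ideal `(a^i b^(N-i) : i < N)`. -/
def relIdeal {R : Type u} [CommRing R] (a b : R) (N : ℕ) : Ideal R :=
  Ideal.span (Set.range fun i : Fin N => a ^ (i : ℕ) * b ^ (N - (i : ℕ)))

theorem map_relIdeal {R S : Type u} [CommRing R] [CommRing S] (f : R →+* S) (a b : R) (N : ℕ) :
    (relIdeal a b N).map f = relIdeal (f a) (f b) N := by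
  rw [relIdeal, relIdeal, Ideal.map_span, ← Set.range_comp]
  congr 2
  funext i
  simp

theorem mem_relIdeal_of_sub_pow_eq_zero {R : Type u} [CommRing R] (a b : R) (N : ℕ) (h : (a - b) ^ N = 0) :
    a ^ N ∈ relIdeal a b N := by
  rw [sub_eq_add_neg, add_pow, Finset.sum_range_succ] at h
  simp only [Nat.sub_self, pow_zero, Nat.choose_self, Nat.cast_one, mul_one] at h
  rw [(eq_neg_of_add_eq_zero_right h)]
  refine neg_mem (Ideal.sum_mem _ fun i hi => ?_)
  have hb : a ^ i * b ^ (N - i) ∈ relIdeal a b N :=
    Ideal.subset_span ⟨⟨i, Finset.mem_range.1 hi⟩, rfl⟩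
  rw [neg_pow b]
  convert Ideal.mul_mem_left _ ((-1) ^ (N - i) * (N.choose i : R)) hb using 1
  ring

theorem mem_relIdeal_of_root {R : Type u} [CommRing R] (P : R[X]) (hP : P.Monic) (a b : R)
    (h : eval a (P.scaleRoots b) = 0) : a ^ P.natDegree ∈ relIdeal a b P.natDegree := by
  rw [eval_eq_sum_range, natDegree_scaleRoots, Finset.sum_range_succ] at h
  simp only [coeff_scaleRoots, Nat.sub_self, pow_zero, hP.coeff_natDegree, mul_one, one_mul] at h
  rw [(eq_neg_of_add_eq_zero_right h)]
  refine neg_mem (Ideal.sum_mem _ fun i hi => ?_)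
  have hb : a ^ i * b ^ (P.natDegree - i) ∈ relIdeal a b P.natDegree :=
    Ideal.subset_span ⟨⟨i, Finset.mem_range.1 hi⟩, rfl⟩
  convert Ideal.mul_mem_left _ (P.coeff i) hb using 1
  ring

theorem isIntegral_of_mem_relIdeal {R K : Type u} [CommRing R] [Field K] [Algebra R K] (a b : R) (N : ℕ)
    (hb : algebraMap R K b ≠ 0) (h : a ^ N ∈ relIdeal a b N) :
    IsIntegral R (algebraMap R K a / algebraMap R K b) := by
  obtain ⟨c, hc⟩ := Ideal.mem_span_range_iff_exists_fun.1 h
  rcases subsingleton_or_nontrivial R with _ | _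
  · exact absurd (by rw [Subsingleton.elim b 0, map_zero]) hb
  refine ⟨X ^ N - ∑ i : Fin N, C (c i) * X ^ (i : ℕ), monic_X_pow_sub ?_, ?_⟩
  · refine (degree_sum_le _ _).trans_lt ((Finset.sup_lt_iff (WithBot.bot_lt_coe N)).2 fun i _ => ?_)
    exact (degree_C_mul_X_pow_le _ _).trans_lt (WithBot.coe_lt_coe.2 i.2)
  · rw [eval₂_sub, eval₂_X_pow, eval₂_finset_sum, sub_eq_zero]
    simp only [eval₂_mul, eval₂_C, eval₂_X_pow]
    apply mul_right_cancel₀ (pow_ne_zero N hb)
    rw [div_pow, div_mul_cancel₀ _ (pow_ne_zero N hb), Finset.sum_mul, ← map_pow, ← hc, map_sum]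
    refine Finset.sum_congr rfl fun i _ => ?_
    have hsplit : algebraMap R K b ^ N = algebraMap R K b ^ (i : ℕ) * algebraMap R K b ^ (N - (i : ℕ)) := by
      rw [← pow_add, Nat.add_sub_cancel' i.2.le]
    rw [map_mul, map_mul, map_pow, map_pow, hsplit, div_pow]
    field_simp

/-- Flat base change of a colon ideal. -/
theorem mem_map_colon {A S : Type u} [CommRing A] [CommRing S] [Algebra A S] [Module.Flat A S]
    (J : Ideal A) (c : A) (σ : S) (h : σ * algebraMap A S c ∈ J.map (algebraMap A S)) :
    σ ∈ Ideal.map (algebraMap A S) (LinearMap.ker (LinearMap.toSpanSingleton A (A ⧸ J) (Ideal.Quotient.mk J c)) : Ideal A) := by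
  let f := LinearMap.toSpanSingleton A (A ⧸ J) (Ideal.Quotient.mk J c)
  let I : Ideal A := LinearMap.ker f
  have hex : Function.Exact (I.subtype : I →ₗ[A] A) f := f.exact_subtype_ker_map
  have hT := Module.Flat.lTensor_exact S hex
  have h0 : f.lTensor S (σ ⊗ₜ[A] 1) = 0 := by
    apply (Algebra.TensorProduct.quotIdealMapEquivTensorQuot S J).symm.injective
    rw [LinearMap.lTensor_tmul, map_zero]
    have : f 1 = c • (1 : A ⧸ J) := by
      show (1 : A) • Ideal.Quotient.mk J c = _
      rw [one_smul, Algebra.smul_def, mul_one]; rfl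
    rw [this, TensorProduct.tmul_smul, TensorProduct.smul_tmul', Algebra.smul_def]
    show (Algebra.TensorProduct.quotIdealMapEquivTensorQuot S J).symm (_ ⊗ₜ[A] Ideal.Quotient.mk J (1 : A)) = 0
    rw [Algebra.TensorProduct.quotIdealMapEquivTensorQuot_symm_tmul, one_smul, Submodule.Quotient.mk_eq_zero,
      mul_comm]
    exact h
  obtain ⟨z, hz⟩ := (hT _).1 h0
  have key : ∀ z : S ⊗[A] I, TensorProduct.rid A S (I.subtype.lTensor S z) ∈ I.map (algebraMap A S) := by
    intro z
    induction z using TensorProduct.induction_on with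
    | zero => simp
    | tmul s j =>
      rw [LinearMap.lTensor_tmul, TensorProduct.rid_tmul, Algebra.smul_def]
      exact Ideal.mul_mem_right _ _ (Ideal.mem_map_of_mem _ j.2)
    | add x y hx hy => rw [map_add, map_add]; exact add_mem hx hy
  have := key z
  rwa [hz, TensorProduct.rid_tmul, one_smul] at this

/-- A Noetherian normal domain is the intersection of its localisations at height one primes. -/
theorem isIntegral_of_forall_height_one {N L : Type u} [CommRing N] [IsDomain N] [IsNoetherianRing N]
    [IsIntegrallyClosed N] [Field L] [Algebra N L] [IsFractionRing N L] (x : L)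
    (h : ∀ (R : Ideal N) [R.IsPrime], R.height = 1 → ∃ s : N, s ∉ R ∧ IsIntegral N (algebraMap N L s * x)) :
    IsIntegral N x := by
  let e := FractionRing.algEquiv N L
  have hyp : ∀ C : Subalgebra N (FractionRing N), C ≤ integralClosure N (FractionRing N) → Module.Finite N C →
      ∀ (q : Ideal C) [q.IsPrime], q.height = 1 → (q.comap (algebraMap N C)).height = 1 := by
    intro C hC _ q _ hq
    have hbij : Function.Bijective (algebraMap N C) := by
      refine ⟨fun a b h => IsFractionRing.injective N (FractionRing N) (congrArg Subtype.val h), fun c => ?_⟩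
      obtain ⟨n, hn⟩ := IsIntegrallyClosed.isIntegral_iff.1 (hC c.2)
      exact ⟨n, Subtype.ext hn⟩
    exact ((RingEquiv.ofBijective _ hbij).height_comap q).trans hq
  have := Groth.Agent.S4568.result (A := N) hyp
  have hx : e.symm x ∈ integralClosure N (FractionRing N) := by
    show e.symm x ∈ (integralClosure N (FractionRing N) : Set (FractionRing N))
    rw [this]
    simp only [Set.mem_iInter]
    intro p hp
    obtain ⟨s, hs, hsx⟩ := h p.asIdeal hp
    refine ⟨s, hs, ?_⟩
    have := hsx.map e.symm.toAlgHom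
    show IsIntegral N _
    simpa using this
  have := IsIntegral.map e.toAlgHom (show IsIntegral N (e.symm x) from hx)
  simpa using this

/-- The valuation at a height one prime of a Noetherian normal domain. -/
theorem exists_valuation {N L : Type u} [CommRing N] [IsDomain N] [IsNoetherianRing N]
    [IsIntegrallyClosed N] [Field L] [Algebra N L] [IsFractionRing N L] (R : Ideal N) [R.IsPrime]
    (hR : R.height = 1) :
    ∃ v : Valuation L ℤᵐ⁰, (∀ x : L, v x ≤ 1 ↔ ∃ n s : N, s ∉ R ∧ algebraMap N L s * x = algebraMap N L n) ∧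
      ∀ n : N, v (algebraMap N L n) < 1 ↔ n ∈ R := by
  let O := Localization.subalgebra.ofField L R.primeCompl R.primeCompl_le_nonZeroDivisors
  haveI : IsLocalization.AtPrime O R := Localization.subalgebra.isLocalization_ofField _ _ _
  haveI : IsLocalRing O := IsLocalization.AtPrime.isLocalRing O R
  haveI : IsNoetherianRing O := IsLocalization.isNoetherianRing R.primeCompl O inferInstance
  haveI : IsIntegrallyClosed O := isIntegrallyClosed_of_isLocalization O R.primeCompl R.primeCompl_le_nonZeroDivisors
  haveI : Ring.KrullDimLE 1 O := Ring.krullDimLE_iff.2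
    (by rw [IsLocalization.AtPrime.ringKrullDim_eq_height R O, hR]; simp)
  haveI : Ring.DimensionLEOne O :=
    ⟨fun {p} hp hpp => Ring.krullDimLE_one_iff_of_noZeroDivisors.mp ‹_› p hp hpp⟩
  haveI : IsDedekindDomain O := { (inferInstance : Ring.DimensionLEOne O) with }
  have hnf : ¬ IsField O := fun hf => by
    have h0 := IsLocalization.AtPrime.ringKrullDim_eq_height R O
    rw [ringKrullDim_eq_zero_of_isField hf, hR] at h0
    simp at h0
  haveI : IsDiscreteValuationRing O := ((IsDiscreteValuationRing.TFAE O hnf).out 0 2 : IsDiscreteValuationRing O ↔ IsDedekindDomain O).2 inferInstance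
  refine ⟨(IsDiscreteValuationRing.maximalIdeal O).valuation L, fun x => ⟨fun hx => ?_, ?_⟩, fun n => ?_⟩
  · obtain ⟨o, rfl⟩ := IsDiscreteValuationRing.exists_lift_of_le_one hx
    obtain ⟨⟨n, s⟩, hns⟩ := IsLocalization.surj R.primeCompl o
    refine ⟨n, s, s.2, ?_⟩
    rw [IsScalarTower.algebraMap_apply N O L, IsScalarTower.algebraMap_apply N O L, ← map_mul, mul_comm, hns]
  · rintro ⟨n, s, hs, hsx⟩
    have hu := IsLocalization.map_units O (⟨s, hs⟩ : R.primeCompl)
    have hx : x = algebraMap O L (algebraMap N O n * ↑hu.unit⁻¹) := by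
      rw [map_mul, ← IsScalarTower.algebraMap_apply, ← hsx, IsScalarTower.algebraMap_apply N O L, mul_comm (algebraMap O L _) x,
        mul_assoc, ← map_mul, IsUnit.mul_val_inv, map_one, mul_one]
    rw [hx]
    exact IsDedekindDomain.HeightOneSpectrum.valuation_le_one _ _
  · rw [IsScalarTower.algebraMap_apply N O L, IsDedekindDomain.HeightOneSpectrum.valuation_lt_one_iff_mem]
    exact IsLocalization.AtPrime.to_map_mem_maximal_iff O R n

/-- Only finitely many height one primes contain a given nonzero element. -/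
theorem finite_height_one_mem {N : Type u} [CommRing N] [IsDomain N] [IsNoetherianRing N] {d : N} (hd : d ≠ 0) :
    {R : Ideal N | R.IsPrime ∧ R.height = 1 ∧ d ∈ R}.Finite := by
  refine (Ideal.finite_minimalPrimes_of_isNoetherianRing N (Ideal.span {d})).subset ?_
  rintro R ⟨hR, hh, hdR⟩
  refine ⟨⟨hR, (Ideal.span_singleton_le_iff_mem R).2 hdR⟩, ?_⟩
  rintro q ⟨hq, hdq⟩ hqR
  rcases eq_or_lt_of_le hqR with h | h
  · exact h.ge
  · exfalso
    have h1 := (Ideal.height_le_iff (p := R) (n := 1)).1 hh.le q hq h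
    haveI := hq
    rw [Nat.cast_one, Order.lt_one_iff, Ideal.height_eq_zero_iff, IsDomain.minimalPrimes_eq_singleton_bot,
      Set.mem_singleton_iff] at h1
    rw [h1] at hdq
    exact hd (Ideal.mem_bot.1 (hdq (Ideal.mem_span_singleton_self d)))

end MoriNagata
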