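import Mathlib

/-!
# The structure of an integral closure given by a family of discrete valuations of finite character

If the integral closure of a domain `A` in its fraction field is cut out by a family of discrete valuations
of finite character, all but finitely many of which are centred at height one primes of `A` and determined
there, and if the fibres of `Spec` of the integral closure over `Spec A` are finite, then for a suitable
finite subalgebra `C` the integral closure is the intersection of the DVRs attached to the height one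
primes of `C`.
-/

set_option autoImplicit false

open scoped WithZero

universe u v

namespace MoriKrull

variable {R K : Type u} [CommRing R] [Field K] [Algebra R K]

/-- The centre of a valuation. -/
def centre (v : Valuation K ℤᵐ⁰) (h : ∀ r : R, v (algebraMap R K r) ≤ 1) : Ideal R where
  carrier := {r | v (algebraMap R K r) < 1}
  zero_mem' := by simp
  add_mem' {a b} ha hb := by
    simp only [Set.mem_setOf_eq, map_add] at *
    exact v.map_add_lt ha hb
  smul_mem' c x hx := by
    simp only [Set.mem_setOf_eq, smul_eq_mul, map_mul] at *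
    exact (mul_le_of_le_one_left' (h c)).trans_lt hx

theorem mem_centre {v : Valuation K ℤᵐ⁰} {h : ∀ r : R, v (algebraMap R K r) ≤ 1} {r : R} :
    r ∈ centre v h ↔ v (algebraMap R K r) < 1 := Iff.rfl

theorem notMem_centre {v : Valuation K ℤᵐ⁰} {h : ∀ r : R, v (algebraMap R K r) ≤ 1} {r : R} :
    r ∉ centre v h ↔ v (algebraMap R K r) = 1 := by
  rw [mem_centre]
  exact ⟨fun hr => le_antisymm (h r) (not_lt.1 hr), fun hr hlt => hlt.ne hr⟩

instance centre_isPrime (v : Valuation K ℤᵐ⁰) (h : ∀ r : R, v (algebraMap R K r) ≤ 1) : (centre v h).IsPrime :=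
  ⟨fun htop => by
      have : (1 : R) ∈ centre v h := htop ▸ Submodule.mem_top
      rw [mem_centre, map_one, map_one] at this
      exact lt_irrefl _ this,
    fun {a b} hab => by
      by_contra hn
      rw [not_or, notMem_centre, notMem_centre] at hn
      rw [mem_centre, map_mul, map_mul, hn.1, hn.2, one_mul] at hab
      exact lt_irrefl _ hab⟩

theorem exists_pow_mul_le_one {a b : ℤᵐ⁰} (ha : a < 1) : ∃ N : ℕ, ∀ n, N ≤ n → a ^ n * b ≤ 1 := by
  rcases eq_or_ne b 0 with rfl | hb
  · exact ⟨0, fun n _ => by simp⟩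
  obtain ⟨N, hN⟩ := exists_pow_lt₀ ha (Units.mk0 b⁻¹ (inv_ne_zero hb))
  refine ⟨N, fun n hn => ?_⟩
  calc a ^ n * b ≤ a ^ N * b := mul_le_mul_left (pow_le_pow_right_of_le_one' ha.le hn) b
    _ ≤ b⁻¹ * b := mul_le_mul_left hN.le b
    _ = 1 := inv_mul_cancel₀ hb

theorem exists_pow_eq_one {a b : ℤᵐ⁰} (ha : a < 1) (ha0 : a ≠ 0) (hb : 1 < b) :
    ∃ k m : ℕ, 0 < k ∧ 0 < m ∧ a ^ k * b ^ m = 1 := by
  have hb0 : b ≠ 0 := (lt_trans zero_lt_one hb).ne'
  obtain ⟨x, rfl⟩ : ∃ x : ℤ, WithZero.exp x = a := ⟨WithZero.log a, WithZero.exp_log ha0⟩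
  obtain ⟨y, rfl⟩ : ∃ y : ℤ, WithZero.exp y = b := ⟨WithZero.log b, WithZero.exp_log hb0⟩
  rw [← WithZero.exp_zero, WithZero.exp_lt_exp] at ha hb
  refine ⟨y.toNat, (-x).toNat, by omega, by omega, ?_⟩
  rw [← WithZero.exp_nsmul, ← WithZero.exp_nsmul, ← WithZero.exp_add, ← WithZero.exp_zero, nsmul_eq_mul,
    nsmul_eq_mul, Int.toNat_of_nonneg (by omega), Int.toNat_of_nonneg (by omega)]
  congr 1
  ring

end MoriKrull

namespace MoriKrull

variable {A K : Type u} [CommRing A] [IsDomain A] [Field K] [Algebra A K] [IsFractionRing A K]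

/-- Multiplying up a prime-avoiding element into the integral closure. -/
theorem exists_smul_mem {ι : Type v} (w : ι → Valuation K ℤᵐ⁰) (G : Set ι) (C : Subalgebra A K)
    (hC : ∀ i (c : C), w i (algebraMap C K c) ≤ 1)
    (hint : ∀ x : K, IsIntegral A x ↔ ∀ i ∈ G, w i x ≤ 1)
    (hfin : ∀ x : K, {i | 1 < w i x}.Finite)
    (p : Ideal C) [p.IsPrime] (x : K)
    (hav : ∀ i ∈ G, 1 < w i x → ¬ centre (w i) (hC i) ≤ p) :
    ∃ s : C, s ∉ p ∧ IsIntegral A ((s : K) * x) := by
  classical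
  have hBfin : {i | i ∈ G ∧ 1 < w i x}.Finite := (hfin x).subset fun i hi => hi.2
  set Bd := hBfin.toFinset
  have hmem : ∀ i ∈ Bd, ∃ s : C, s ∈ centre (w i) (hC i) ∧ s ∉ p := fun i hi => by
    have hi' : i ∈ G ∧ 1 < w i x := hBfin.mem_toFinset.1 hi
    simpa [SetLike.not_le_iff_exists] using hav i hi'.1 hi'.2
  choose s hs hsp using hmem
  let t : C := ∏ i ∈ Bd.attach, s i.1 i.2
  have htp : t ∉ p := fun ht => by
    obtain ⟨i, -, hi⟩ := Ideal.IsPrime.prod_mem_iff.1 ht
    exact hsp _ _ hi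
  have hN : ∀ i ∈ Bd, ∃ N, ∀ n, N ≤ n → w i (t : K) ^ n * w i x ≤ 1 := fun i hi => by
    refine exists_pow_mul_le_one ?_
    have : t ∈ centre (w i) (hC i) :=
      Ideal.prod_mem _ (Finset.mem_attach Bd ⟨i, hi⟩) (hs i hi)
    exact this
  choose N hN using hN
  let M := Bd.attach.sup fun i => N i.1 i.2
  refine ⟨t ^ M, fun h => htp (Ideal.IsPrime.mem_of_pow_mem ‹_› _ h), (hint _).2 fun i hi => ?_⟩
  rw [SubmonoidClass.coe_pow, map_mul, map_pow]
  by_cases hx : 1 < w i x
  · have hiB : i ∈ Bd := hBfin.mem_toFinset.2 ⟨hi, hx⟩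
    exact hN i hiB M (Finset.le_sup (f := fun j : Bd => N j.1 j.2) (Finset.mem_attach Bd ⟨i, hiB⟩))
  · exact mul_le_one' (pow_le_one' (hC i t) _) (not_lt.1 hx)

theorem main {ι : Type v} (w : ι → Valuation K ℤᵐ⁰)
    (hnt : ∀ i, ∃ x : K, 1 < w i x)
    (hint : ∀ x : K, IsIntegral A x ↔ ∀ i, w i x ≤ 1)
    (hfin : ∀ x : K, {i | 1 < w i x}.Finite)
    (F : Finset ι) (hA : ∀ i (a : A), w i (algebraMap A K a) ≤ 1)
    (hgood : ∀ i ∉ F, (centre (w i) (hA i)).height ≤ 1 ∧
      ∀ x, w i x ≤ 1 → ∃ s : A, s ∉ centre (w i) (hA i) ∧ IsIntegral A (algebraMap A K s * x))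
    (hfib : ∀ (p : Ideal A) [p.IsPrime],
      {P : Ideal (integralClosure A K) | P.IsPrime ∧ P.comap (algebraMap A (integralClosure A K)) = p}.Finite) :
    ∃ C : Subalgebra A K, Module.Finite A C ∧
      (∀ (p : Ideal C) [p.IsPrime], p.height = 1 →
        ∃ V : ValuationSubring K, IsDiscreteValuationRing V ∧
          ∀ x : K, x ∈ V ↔ ∃ s : C, s ∉ p ∧ IsIntegral C ((s : K) * x)) ∧
      (∀ x : K, x ∈ integralClosure A K ↔
        ∀ (p : Ideal C) [p.IsPrime], p.height = 1 → ∃ s : C, s ∉ p ∧ IsIntegral C ((s : K) * x)) ∧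
      (∀ x : K, {p : Ideal C | p.IsPrime ∧ p.height = 1 ∧
        ¬ ∃ s : C, s ∉ p ∧ IsIntegral C ((s : K) * x)}.Finite) := by
  classical
  let A' := integralClosure A K
  have hA' : ∀ i (a : A'), w i (algebraMap A' K a) ≤ 1 := fun i a => (hint _).1 a.2 i
  -- an irredundant subset of the exceptional indices
  let cand := F.powerset.filter fun F₀ => ∀ x, (∀ i, i ∉ F ∨ i ∈ F₀ → w i x ≤ 1) → ∀ i, w i x ≤ 1
  have hne : cand.Nonempty := ⟨F, Finset.mem_filter.2 ⟨Finset.mem_powerset_self F, fun x hx i =>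
    hx i ((em (i ∈ F)).symm.imp id id)⟩⟩
  obtain ⟨F₀, hF₀, hmin⟩ := cand.exists_min_image Finset.card hne
  obtain ⟨hsub', hF₀'⟩ := Finset.mem_filter.1 hF₀
  have hsub := Finset.mem_powerset.1 hsub'
  let G : Set ι := {i | i ∉ F ∨ i ∈ F₀}
  have hintG : ∀ x : K, IsIntegral A x ↔ ∀ i ∈ G, w i x ≤ 1 := fun x =>
    ⟨fun h i _ => (hint x).1 h i, fun h => (hint x).2 (hF₀' x h)⟩
  have hirr : ∀ i ∈ F₀, ∃ y, (∀ j ∈ G, j ≠ i → w j y ≤ 1) ∧ 1 < w i y := by
    intro i hi
    by_contra hno
    push Not at hno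
    have hc : F₀.erase i ∈ cand := Finset.mem_filter.2 ⟨Finset.mem_powerset.2 ((F₀.erase_subset i).trans hsub),
      fun x hx => hF₀' x fun j hj => by
        by_cases hji : j = i
        · subst hji
          refine hno x fun l hl hlj => hx l ?_
          exact hl.imp id (fun h => Finset.mem_erase.2 ⟨hlj, h⟩)
        · exact hx j (hj.imp id (fun h => Finset.mem_erase.2 ⟨hji, h⟩))⟩
    exact absurd (hmin _ hc) (not_le.2 (Finset.card_erase_lt_of_mem hi))
  -- the two uses of irredundancy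
  have hkill : ∀ i ∈ F₀, (∀ j ∈ G, centre (w j) (hA' j) = centre (w i) (hA' i) → j = i) ∧
      ∀ P₁ : Ideal A', P₁.IsPrime → P₁ ≠ ⊥ → P₁ ≤ centre (w i) (hA' i) → P₁ = centre (w i) (hA' i) := by
    intro i hi
    obtain ⟨y, hy, hyi⟩ := hirr i hi
    set P := centre (w i) (hA' i)
    have hu : ∀ z ∈ P, z ≠ 0 → ∃ (k m : ℕ) (u : A'), 0 < k ∧ 0 < m ∧ (u : K) = (z : K) ^ k * y ^ m ∧ u ∉ P := by
      intro z hz hz0
      have hzK : (z : K) ≠ 0 := fun h => hz0 (Subtype.ext h)
      obtain ⟨k, m, hk, hm, hkm⟩ := exists_pow_eq_one (a := w i (z : K)) (b := w i y) hz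
        ((map_ne_zero _).2 hzK) hyi
      have hmem : IsIntegral A ((z : K) ^ k * y ^ m) := (hintG _).2 fun j hj => by
        rw [map_mul, map_pow, map_pow]
        by_cases hji : j = i
        · rw [hji, hkm]
        · exact mul_le_one' (pow_le_one' (hA' j z) _) (pow_le_one' (hy j hj hji) _)
      refine ⟨k, m, ⟨_, hmem⟩, hk, hm, rfl, notMem_centre.2 ?_⟩
      show w i ((z : K) ^ k * y ^ m) = 1
      rw [map_mul, map_pow, map_pow, hkm]
    constructor
    · intro j hj hji
      by_contra hne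
      obtain ⟨b, hbne, hb⟩ : ∃ b : A, b ≠ 0 ∧ algebraMap A A' b ∈ P := by
        obtain ⟨a, b, hb0, rfl⟩ := IsFractionRing.div_surjective A y
        refine ⟨b, nonZeroDivisors.ne_zero hb0, ?_⟩
        show w i (algebraMap A K b) < 1
        by_contra hb1
        have hb1' : w i (algebraMap A K b) = 1 := le_antisymm (hA i b) (not_lt.1 hb1)
        rw [map_div₀, hb1', div_one] at hyi
        exact absurd hyi (not_lt.2 (hA i a))
      rcases eq_or_ne (algebraMap A A' b) 0 with h0 | h0
      · exact hbne ((map_eq_zero_iff (algebraMap A A') (FaithfulSMul.algebraMap_injective A A')).1 h0)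
      obtain ⟨k, m, u, hk, -, hu', huP⟩ := hu _ hb h0
      refine huP ?_
      rw [← hji] at hb ⊢
      show w j (u : K) < 1
      rw [hu', map_mul, map_pow, map_pow]
      exact mul_lt_one_of_lt_of_le (pow_lt_one₀ zero_le hb hk.ne') (pow_le_one' (hy j hj hne) _)
    · intro P₁ hP₁ hbot hle
      refine le_antisymm hle fun z hz => ?_
      by_contra hz1
      have hz0 : z ≠ 0 := fun h => hz1 (h ▸ zero_mem _)
      obtain ⟨t, ht, ht0⟩ := Submodule.exists_mem_ne_zero_of_ne_bot hbot
      obtain ⟨k, m, u, hk, hm, hu', huP⟩ := hu z hz hz0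
      obtain ⟨k', m', u', hk', -, hu'', huP'⟩ := hu t (hle ht) ht0
      have heq : u' ^ m * z ^ (k * m') = t ^ (k' * m) * u ^ m' := Subtype.ext (by
        show ((u' : K)) ^ m * (z : K) ^ (k * m') = (t : K) ^ (k' * m) * (u : K) ^ m'
        rw [hu', hu'', mul_pow, mul_pow, ← pow_mul, ← pow_mul, ← pow_mul, ← pow_mul, mul_comm m' m]
        ring)
      have hmem : u' ^ m * z ^ (k * m') ∈ P₁ :=
        heq ▸ P₁.mul_mem_right _ (P₁.pow_mem_of_mem ht _ (Nat.mul_pos hk' hm))
      rcases hP₁.mem_or_mem hmem with h | h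
      · exact huP' (hle (hP₁.mem_of_pow_mem _ h))
      · exact hz1 (hP₁.mem_of_pow_mem _ h)
  -- the separating elements
  have hsep : ∀ i, ∀ P' : Ideal A', ∃ e : A', P' ≠ centre (w i) (hA' i) → ¬ (e ∈ P' ↔ e ∈ centre (w i) (hA' i)) := by
    intro i P'
    by_cases h : P' = centre (w i) (hA' i)
    · exact ⟨0, fun h' => absurd h h'⟩
    · obtain ⟨e, he⟩ := not_forall.1 (mt SetLike.ext h)
      exact ⟨e, fun _ => he⟩
  choose sep hsep using hsep
  let E : Set K := ⋃ i ∈ F, (fun P' => (sep i P' : K)) ''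
    {P' : Ideal A' | P'.IsPrime ∧ P'.comap (algebraMap A A') = centre (w i) (hA i)}
  have hEfin : E.Finite := F.finite_toSet.biUnion fun i _ => (hfib _).image _
  have hEint : ∀ x ∈ E, IsIntegral A x := by
    intro x hx
    simp only [E, Set.mem_iUnion, Set.mem_image] at hx
    obtain ⟨i, -, P', -, rfl⟩ := hx
    exact (sep i P').2
  let C := Algebra.adjoin A E
  have hCA' : C ≤ A' := Algebra.adjoin_le hEint
  haveI hCfin : Module.Finite A C := Algebra.finite_adjoin_of_finite_of_isIntegral hEfin hEint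
  haveI : Algebra.IsIntegral A C := Algebra.IsIntegral.of_finite A C
  let incl : C →+* A' := (Subalgebra.inclusion hCA').toRingHom
  letI : Algebra C A' := incl.toAlgebra
  haveI : IsScalarTower A C A' := IsScalarTower.of_algebraMap_eq fun _ => rfl
  haveI : Algebra.IsIntegral C A' := Algebra.IsIntegral.tower_top A
  have hC : ∀ i (c : C), w i (algebraMap C K c) ≤ 1 := fun i c => hA' i (incl c)
  have hIntC : ∀ x : K, IsIntegral C x ↔ IsIntegral A x := fun x =>
    ⟨fun h => isIntegral_trans x h, fun h => h.tower_top⟩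
  have hunique : ∀ i ∈ F, ∀ P' : Ideal A', P'.IsPrime → P'.comap incl = centre (w i) (hC i) →
      P' = centre (w i) (hA' i) := by
    intro i hi P' hP' hc
    by_contra hne
    have hover : P'.comap (algebraMap A A') = centre (w i) (hA i) := by
      rw [show algebraMap A A' = incl.comp (algebraMap A C) from rfl, ← Ideal.comap_comap, hc]
      rfl
    have hmem : (sep i P' : K) ∈ C := Algebra.subset_adjoin (by
      simp only [E, Set.mem_iUnion, Set.mem_image]
      exact ⟨i, hi, P', ⟨hP', hover⟩, rfl⟩)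
    refine hsep i P' hne ?_
    exact SetLike.ext_iff.1 hc (⟨_, hmem⟩ : C)
  -- centres on `C`
  have hAC : ∀ i, (centre (w i) (hC i)).comap (algebraMap A C) = centre (w i) (hA i) := fun i => rfl
  have hcne : ∀ i, centre (w i) (hC i) ≠ ⊥ := by
    intro i h
    obtain ⟨y, hy⟩ := hnt i
    obtain ⟨a, b, hb0, rfl⟩ := IsFractionRing.div_surjective A y
    have hb1 : algebraMap A C b ∈ centre (w i) (hC i) := by
      show w i (algebraMap A K b) < 1
      by_contra hb1
      have hb1' : w i (algebraMap A K b) = 1 := le_antisymm (hA i b) (not_lt.1 hb1)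
      rw [map_div₀, hb1', div_one] at hy
      exact absurd hy (not_lt.2 (hA i a))
    rw [h, Ideal.mem_bot] at hb1
    exact nonZeroDivisors.ne_zero hb0 (IsFractionRing.injective A K
      ((congrArg Subtype.val hb1).trans (map_zero (algebraMap A K)).symm))
  have hht : ∀ i ∈ G, ∀ q : Ideal C, q.IsPrime → q < centre (w i) (hC i) → q = ⊥ := by
    intro i hi q hq hlt
    by_cases hiF : i ∈ F
    · have hi₀ : i ∈ F₀ := hi.resolve_left (fun h => h hiF)
      by_contra hq0
      obtain ⟨P₁, hP₁, hP₁c⟩ := Ideal.exists_ideal_over_prime_of_isIntegral_of_isDomain (S := A') q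
        (by rw [(RingHom.injective_iff_ker_eq_bot _).1 (show Function.Injective (algebraMap C A') from Subalgebra.inclusion_injective hCA')]; exact bot_le)
      obtain ⟨P', hP₁P', hP', hP'c⟩ := Ideal.exists_ideal_over_prime_of_isIntegral (centre (w i) (hC i)) P₁
        (by rw [hP₁c]; exact hlt.le)
      have := hunique i hiF P' hP' hP'c
      subst this
      have h₁ : P₁ ≠ ⊥ := fun h => hq0 (by
        rw [← hP₁c, h]
        exact Ideal.comap_bot_of_injective _ (Subalgebra.inclusion_injective hCA'))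
      have := (hkill i hi₀).2 P₁ hP₁ h₁ hP₁P'
      rw [this] at hP₁c
      exact hlt.ne (hP₁c.symm.trans hP'c)
    · have hlt' : q.comap (algebraMap A C) < centre (w i) (hA i) :=
        hAC i ▸ Ideal.IsIntegral.comap_lt_comap hlt
      have h0 := (Ideal.height_le_iff (n := 1)).1 (hgood i hiF).1 _ inferInstance hlt'
      rw [Nat.cast_one, ENat.lt_one_iff_eq_zero, Ideal.height_eq_zero_iff, IsDomain.minimalPrimes_eq_singleton_bot,
        Set.mem_singleton_iff] at h0
      exact Ideal.eq_bot_of_comap_eq_bot h0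
  have hh1 : ∀ i ∈ G, (centre (w i) (hC i)).height = 1 := by
    intro i hi
    refine le_antisymm ((Ideal.height_le_iff (n := 1)).2 fun q hq hlt => ?_) ?_
    · rw [hht i hi q hq hlt, Ideal.height_bot, Nat.cast_one]; exact zero_lt_one
    · rw [Order.one_le_iff_ne_zero, ne_eq, Ideal.height_eq_zero_iff, IsDomain.minimalPrimes_eq_singleton_bot,
        Set.mem_singleton_iff]
      exact hcne i
  let T : Ideal C → K → Prop := fun p x => ∃ s : C, s ∉ p ∧ IsIntegral C ((s : K) * x)
  have hL1 : ∀ i (x : K), T (centre (w i) (hC i)) x → w i x ≤ 1 := by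
    rintro i x ⟨s, hs, hsx⟩
    have h := (hint _).1 ((hIntC _).1 hsx) i
    rwa [map_mul, show w i (s : K) = 1 from notMem_centre.1 hs, one_mul] at h
  have hstrict : ∀ i ∈ G, ∀ (p : Ideal C) [p.IsPrime], p.height = 1 → centre (w i) (hC i) ≤ p → centre (w i) (hC i) = p := by
    intro i hi p _ hp hle
    rcases eq_or_lt_of_le hle with h | h
    · exact h
    · have := (Ideal.height_le_iff (p := p) (n := 1)).1 hp.le _ inferInstance h
      rw [hh1 i hi, Nat.cast_one] at this
      exact absurd this (lt_irrefl _)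
  have havoid : ∀ (p : Ideal C) [p.IsPrime], p.height = 1 → ∀ x : K,
      (∀ i ∈ G, centre (w i) (hC i) = p → w i x ≤ 1) → T p x := by
    intro p _ hp x hx
    obtain ⟨s, hs, hsx⟩ := exists_smul_mem w G C hC hintG hfin p x
      (fun i hi hlt hle => absurd (hx i hi (hstrict i hi p hp hle)) (not_le.2 hlt))
    exact ⟨s, hs, (hIntC _).2 hsx⟩
  have hexists : ∀ (p : Ideal C) [p.IsPrime], p.height = 1 → ∃ i ∈ G, centre (w i) (hC i) = p := by
    intro p _ hp
    by_contra hno
    push Not at hno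
    obtain ⟨c, hc, hc0⟩ := Submodule.exists_mem_ne_zero_of_ne_bot (p.ne_bot_of_height_eq_one hp)
    obtain ⟨s, hs, hsx⟩ := havoid p hp (c : K)⁻¹ (fun i hi h => absurd h (hno i hi))
    obtain ⟨P, hP, hPc⟩ := Ideal.exists_ideal_over_prime_of_isIntegral_of_isDomain (S := A') p
      (by rw [(RingHom.injective_iff_ker_eq_bot _).1 (show Function.Injective (algebraMap C A') from Subalgebra.inclusion_injective hCA')]; exact bot_le)
    have heq : incl s = incl c * (⟨_, (hIntC _).1 hsx⟩ : A') := Subtype.ext (by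
      show (s : K) = (c : K) * ((s : K) * (c : K)⁻¹)
      rw [mul_comm (s : K), ← mul_assoc, mul_inv_cancel₀ (fun h => hc0 (Subtype.ext h)), one_mul])
    refine hs ?_
    rw [← hPc] at hc ⊢
    show incl s ∈ P
    rw [heq]
    exact P.mul_mem_right _ hc
  have hT : ∀ (p : Ideal C) [p.IsPrime], p.height = 1 → ∃ i ∈ G, centre (w i) (hC i) = p ∧ ∀ x, T p x ↔ w i x ≤ 1 := by
    intro p _ hp
    by_cases hex : ∃ i, i ∉ F ∧ centre (w i) (hC i) = p
    · obtain ⟨i, hiF, rfl⟩ := hex
      refine ⟨i, Or.inl hiF, rfl, fun x => ⟨hL1 i x, fun hx => ?_⟩⟩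
      obtain ⟨s, hs, hsx⟩ := (hgood i hiF).2 x hx
      exact ⟨algebraMap A C s, hs, (hIntC _).2 hsx⟩
    · obtain ⟨i, hiG, hip⟩ := hexists p hp
      have hiF : i ∈ F := by_contra fun h => hex ⟨i, h, hip⟩
      refine ⟨i, hiG, hip, fun x => ⟨fun h => hL1 i x (hip ▸ h), fun hx => havoid p hp x fun j hj hjp => ?_⟩⟩
      have hjP : centre (w j) (hA' j) = centre (w i) (hA' i) :=
        hunique i hiF _ inferInstance (hjp.trans hip.symm)
      rwa [(hkill i (hiG.resolve_left fun h => h hiF)).1 j hj hjP]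
  refine ⟨C, hCfin, fun p _ hp => ?_, fun x => ⟨fun hx p _ _ => ⟨1, ?_, ?_⟩, fun h => ?_⟩, fun x => ?_⟩
  · obtain ⟨i, -, -, hi⟩ := hT p hp
    haveI : (w i).IsNontrivial := by
      obtain ⟨x, hx⟩ := hnt i
      exact ⟨x, (lt_trans zero_lt_one hx).ne', hx.ne'⟩
    exact ⟨(w i).valuationSubring, inferInstance, fun x => ((w i).mem_valuationSubring_iff x).trans (hi x).symm⟩
  · exact fun h1 => Ideal.IsPrime.ne_top ‹_› ((Ideal.eq_top_iff_one _).2 h1)
  · simpa using (hIntC x).2 hx
  · refine (hintG x).2 fun i hi => hL1 i x (h _ (hh1 i hi))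
  · refine ((hfin x).image fun i => centre (w i) (hC i)).subset ?_
    rintro p ⟨hp', hp, hnT⟩
    haveI := hp'
    obtain ⟨i, -, hip, hi⟩ := hT p hp
    exact ⟨i, not_le.1 fun h => hnT ((hi x).2 h), hip⟩

end MoriKrull
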