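import Groth.Agent.Lib.MoriNagata2.Alg
import Groth.Agent.Lib.MoriNagata2.Krull
import Groth.Agent.Lib.CplDomain.Nagata

/-!
# The branches of the completion of a Noetherian local domain
-/

set_option autoImplicit false

open scoped WithZero
open IsLocalRing

universe u

namespace MoriNagata

variable {A : Type u} [CommRing A] [IsDomain A]
variable {S : Type u} [CommRing S] [IsNoetherianRing S] [Algebra A S] [Module.FaithfullyFlat A S]

variable (S) in
/-- The minimal primes of the completion. -/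
abbrev Br : Type u := {q : Ideal S // q ∈ minimalPrimes S}

instance instFiniteBr : Finite (Br S) := (minimalPrimes.finite_of_isNoetherianRing S).to_subtype

instance instPrimeBr (q : Br S) : q.1.IsPrime := q.2.1.1

/-- The function field of a branch. -/
abbrev BrField (q : Br S) : Type u := FractionRing (S ⧸ q.1)

/-- The map to the function field of a branch. -/
noncomputable def toBr (q : Br S) : S →+* BrField q :=
  (algebraMap (S ⧸ q.1) (BrField q)).comp (Ideal.Quotient.mk q.1)

theorem toBr_eq_zero (q : Br S) (c : S) : toBr q c = 0 ↔ c ∈ q.1 := by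
  rw [toBr, RingHom.comp_apply, map_eq_zero_iff _ (IsFractionRing.injective (S ⧸ q.1) (BrField q)),
    Ideal.Quotient.eq_zero_iff_mem]

theorem algebraMap_mem_nonZeroDivisors {a : A} (ha : a ≠ 0) : algebraMap A S a ∈ nonZeroDivisors S := by
  have hreg : IsSMulRegular S a := Module.Flat.isSMulRegular_of_isRegular (IsRegular.of_ne_zero ha)
  rw [mem_nonZeroDivisors_iff_right]
  intro z hz
  apply hreg
  show a • z = a • 0
  rw [smul_zero, Algebra.smul_def, mul_comm, hz]

theorem eq_zero_of_mem_br (q : Br S) {a : A} (ha : algebraMap A S a ∈ q.1) : a = 0 := by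
  by_contra ha0
  exact Set.disjoint_left.1 (Ideal.disjoint_nonZeroDivisors_of_mem_minimalPrimes q.2) ha
    (algebraMap_mem_nonZeroDivisors ha0)

theorem toBr_algebraMap_ne_zero (q : Br S) {b : A} (hb : b ≠ 0) : toBr q (algebraMap A S b) ≠ 0 :=
  fun h => hb (eq_zero_of_mem_br q ((toBr_eq_zero q _).1 h))

variable {K : Type u} [Field K] [Algebra A K] [IsFractionRing A K]

variable (A) in
/-- The field of fractions maps to each branch. -/
noncomputable def fracToBr (q : Br S) : K →+* BrField q :=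
  IsFractionRing.lift (A := A) (g := (toBr q).comp (algebraMap A S))
    ((injective_iff_map_eq_zero _).2 fun _ ha => eq_zero_of_mem_br q ((toBr_eq_zero q _).1 ha))

theorem fracToBr_algebraMap (q : Br S) (a : A) :
    fracToBr (K := K) A q (algebraMap A K a) = toBr q (algebraMap A S a) :=
  IsFractionRing.lift_algebraMap _ a

theorem isIntegral_fracToBr (q : Br S) {x : K} (hx : IsIntegral A x) :
    IsIntegral (S ⧸ q.1) (fracToBr (K := K) A q x) := by
  obtain ⟨P, hP, hPx⟩ := hx
  refine ⟨P.map ((Ideal.Quotient.mk q.1).comp (algebraMap A S)), hP.map _, ?_⟩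
  have hcomp : (algebraMap (S ⧸ q.1) (BrField q)).comp ((Ideal.Quotient.mk q.1).comp (algebraMap A S)) =
      (fracToBr (K := K) A q).comp (algebraMap A K) := RingHom.ext fun a => by
    simp only [RingHom.comp_apply, fracToBr_algebraMap, toBr]
  rw [Polynomial.eval₂_map, hcomp, ← Polynomial.hom_eval₂, hPx, map_zero]

set_option maxHeartbeats 1000000 in
/-- Integrality is detected on the branches. -/
theorem isIntegral_of_branches {x : K} (hx : ∀ q : Br S, IsIntegral (S ⧸ q.1) (fracToBr (K := K) A q x)) :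
    IsIntegral A x := by
  classical
  haveI := Fintype.ofFinite (Br S)
  obtain ⟨a, b, hb, rfl⟩ := IsFractionRing.div_surjective A x
  have hb0 := nonZeroDivisors.ne_zero hb
  let T := Localization (Submonoid.powers (algebraMap A S b))
  have hTinj : Function.Injective (algebraMap S T) := IsLocalization.injective T
    (Submonoid.powers_le.2 (algebraMap_mem_nonZeroDivisors hb0))
  choose P hP hPx using hx
  have hlift : ∀ q : Br S, ∃ Q : Polynomial S, Q.Monic ∧ Q.map (Ideal.Quotient.mk q.1) = P q := fun q => by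
    obtain ⟨Q, hQ, -, hQm⟩ := Polynomial.lifts_and_degree_eq_and_monic
      (show P q ∈ Polynomial.lifts (Ideal.Quotient.mk q.1) from
        Polynomial.map_surjective _ Ideal.Quotient.mk_surjective (P q)) (hP q)
    exact ⟨Q, hQm, hQ⟩
  choose Q hQ hQP using hlift
  let Q' : Polynomial S := ∏ q, Q q
  have hQ' : Q'.Monic := Polynomial.monic_prod_of_monic _ _ fun q _ => hQ q
  obtain ⟨u, hu⟩ := IsLocalization.map_units T
    (⟨_, Submonoid.mem_powers _⟩ : Submonoid.powers (algebraMap A S b))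
  let xT : T := algebraMap S T (algebraMap A S a) * ↑u⁻¹
  have hnil : IsNilpotent (Polynomial.eval₂ (algebraMap S T) xT Q') := by
    obtain ⟨⟨c, s⟩, hcs⟩ := IsLocalization.surj (Submonoid.powers (algebraMap A S b))
      (Polynomial.eval₂ (algebraMap S T) xT Q')
    have hc : IsNilpotent c := by
      rw [← mem_nilradical, nilradical, Ideal.zero_eq_bot, ← Ideal.sInf_minimalPrimes]
      refine Ideal.mem_sInf.2 fun {q} hq => ?_
      haveI : q.IsPrime := hq.1.1
      let qb : Br S := ⟨q, hq⟩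
      have hbu : IsUnit (toBr qb (algebraMap A S b)) := IsUnit.mk0 (toBr qb (algebraMap A S b)) (toBr_algebraMap_ne_zero qb hb0)
      have hunits : ∀ y : Submonoid.powers (algebraMap A S b), IsUnit (toBr qb y) := by
        rintro ⟨_, n, rfl⟩
        rw [map_pow]; exact hbu.pow n
      let Φ : T →+* BrField qb := IsLocalization.lift hunits
      have hΦ : Φ.comp (algebraMap S T) = toBr qb := IsLocalization.lift_comp hunits
      have hxT : Φ xT = fracToBr (K := K) A qb (algebraMap A K a / algebraMap A K b) := by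
        rw [map_div₀, fracToBr_algebraMap, fracToBr_algebraMap, eq_div_iff hbu.ne_zero, ← hΦ, RingHom.comp_apply,
          RingHom.comp_apply, ← map_mul, mul_assoc, ← hu, Units.inv_mul, mul_one]
      have h0 : Φ (Polynomial.eval₂ (algebraMap S T) xT Q') = 0 := by
        rw [Polynomial.hom_eval₂, hΦ, hxT, Polynomial.eval₂_finset_prod]
        refine Finset.prod_eq_zero (Finset.mem_univ qb) ?_
        rw [toBr, ← Polynomial.eval₂_map, hQP]
        exact hPx qb
      refine (toBr_eq_zero qb c).1 ?_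
      rw [← hΦ, RingHom.comp_apply, ← hcs, map_mul, h0, zero_mul]
    have := hc.map (algebraMap S T)
    rw [← hcs] at this
    exact ((IsLocalization.map_units T s).isNilpotent_mul_unit_of_commute_iff (Commute.all _ _)).1 this
  obtain ⟨k, hk⟩ := hnil
  have hR0 : Polynomial.eval₂ (algebraMap S T) xT (Q' ^ k) = 0 := by rw [Polynomial.eval₂_pow, hk]
  have hev : Polynomial.eval (algebraMap A S a) ((Q' ^ k).scaleRoots (algebraMap A S b)) = 0 := by
    apply hTinj
    rw [map_zero, ← Polynomial.eval₂_at_apply]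
    have h2 := Polynomial.scaleRoots_eval₂_eq_zero (algebraMap S T) (s := algebraMap A S b) hR0
    have he : algebraMap S T (algebraMap A S b) * xT = algebraMap S T (algebraMap A S a) := by
      rw [mul_left_comm, ← hu, Units.mul_inv, mul_one]
    rwa [he] at h2
  have hmem := mem_relIdeal_of_root (Q' ^ k) (hQ'.pow k) _ _ hev
  rw [← map_relIdeal, ← map_pow] at hmem
  refine isIntegral_of_mem_relIdeal a b (Q' ^ k).natDegree (IsFractionRing.to_map_ne_zero_of_mem_nonZeroDivisors hb) ?_
  exact (Ideal.comap_map_eq_self_of_faithfullyFlat (B := S) (relIdeal a b (Q' ^ k).natDegree)).le hmem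

variable [IsLocalRing S] [IsAdicComplete (maximalIdeal S) S]

/-- The normalisation of a branch. -/
abbrev BrNorm (q : Br S) : Type u := integralClosure (S ⧸ q.1) (BrField q)

instance instFiniteBrNorm (q : Br S) : Module.Finite (S ⧸ q.1) (BrNorm q) :=
  (Groth.Agent.CplDomain.isNagata_of_complete S).2 q.1 (BrField q) inferInstance

instance instFracBrNorm (q : Br S) : IsFractionRing (BrNorm q) (BrField q) :=
  integralClosure.isFractionRing_of_finite_extension (FractionRing (S ⧸ q.1)) (BrField q)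

instance instNoethBrNorm (q : Br S) : IsNoetherianRing (BrNorm q) :=
  IsNoetherianRing.of_finite (S ⧸ q.1) (BrNorm q)

instance instClosedBrNorm (q : Br S) : IsIntegrallyClosed (BrNorm q) :=
  integralClosure.isIntegrallyClosedOfFiniteExtension (FractionRing (S ⧸ q.1))

/-- The completion maps to the normalisation of a branch. -/
noncomputable def toNorm (q : Br S) : S →+* BrNorm q :=
  (algebraMap (S ⧸ q.1) (BrNorm q)).comp (Ideal.Quotient.mk q.1)

theorem coe_toNorm (q : Br S) (c : S) : ((toNorm q c : BrNorm q) : BrField q) = toBr q c := rfl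

theorem algebraMap_brNorm (q : Br S) (y : BrNorm q) : algebraMap (BrNorm q) (BrField q) y = (y : BrField q) := rfl

theorem algebraMap_toNorm (q : Br S) (c : S) : algebraMap (BrNorm q) (BrField q) (toNorm q c) = toBr q c := rfl

variable (A) in
/-- The integral closure maps to the normalisation of a branch. -/
noncomputable def fracToNorm (q : Br S) : integralClosure A K →+* BrNorm q where
  toFun x := ⟨fracToBr (K := K) A q (x : K), isIntegral_fracToBr q x.2⟩
  map_one' := Subtype.ext (map_one (fracToBr (K := K) A q))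
  map_mul' x y := Subtype.ext (map_mul (fracToBr (K := K) A q) (x : K) (y : K))
  map_zero' := Subtype.ext (map_zero (fracToBr (K := K) A q))
  map_add' x y := Subtype.ext (map_add (fracToBr (K := K) A q) (x : K) (y : K))

theorem coe_fracToNorm (q : Br S) (x : integralClosure A K) :
    ((fracToNorm A q x : BrNorm q) : BrField q) = fracToBr (K := K) A q (x : K) := rfl

theorem toNorm_eq_zero (q : Br S) {c : S} : toNorm q c = 0 ↔ c ∈ q.1 := by
  rw [← toBr_eq_zero, ← coe_toNorm]
  exact (Subtype.ext_iff).trans (by simp)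

theorem isLocalRing_brNorm (q : Br S) : IsLocalRing (BrNorm q) := by
  letI : Algebra S (BrNorm q) := (toNorm q).toAlgebra
  haveI : IsScalarTower S (S ⧸ q.1) (BrNorm q) := IsScalarTower.of_algebraMap_eq fun _ => rfl
  haveI : Module.Finite S (BrNorm q) := Module.Finite.trans (S ⧸ q.1) (BrNorm q)
  exact (Groth.Agent.CplDomain.completeLocal_of_finite S (BrNorm q)).choose

/-- The valuation at a height one prime of a normalised branch. -/
theorem exists_brValuation (q : Br S) (R : Ideal (BrNorm q)) [R.IsPrime] (hR : R.height = 1) :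
    ∃ v : Valuation (BrField q) ℤᵐ⁰,
      (∀ x : BrField q, v x ≤ 1 ↔ ∃ n s : BrNorm q, s ∉ R ∧ (s : BrField q) * x = (n : BrField q)) ∧
      (∀ c : S, v (toBr q c) < 1 ↔ toNorm q c ∈ R) ∧
      ∀ x : BrField q, IsIntegral (S ⧸ q.1) x → v x ≤ 1 := by
  obtain ⟨v, hv, hvlt⟩ := exists_valuation (N := BrNorm q) (L := BrField q) R hR
  refine ⟨v, fun x => ?_, fun c => ?_, fun x hx => ?_⟩
  · simpa only [algebraMap_brNorm] using hv x
  · rw [← algebraMap_toNorm]; exact hvlt _
  · refine (hv x).2 ⟨⟨x, hx⟩, 1, fun h => (inferInstance : R.IsPrime).ne_top ((Ideal.eq_top_iff_one _).2 h), ?_⟩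
    rw [map_one, one_mul, algebraMap_brNorm]

/-- A branch field element integral at every height one prime is integral. -/
theorem isIntegral_brField (q : Br S) (x : BrField q)
    (h : ∀ (R : Ideal (BrNorm q)) [R.IsPrime], R.height = 1 →
      ∃ n s : BrNorm q, s ∉ R ∧ (s : BrField q) * x = (n : BrField q)) :
    IsIntegral (S ⧸ q.1) x := by
  refine isIntegral_trans (A := BrNorm q) x (isIntegral_of_forall_height_one x fun R _ hR => ?_)
  obtain ⟨n, s, hs, hns⟩ := h R hR
  refine ⟨s, hs, ?_⟩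
  rw [algebraMap_brNorm, hns, ← algebraMap_brNorm]
  exact isIntegral_algebraMap

/-- A denominator on a branch. -/
theorem exists_den (q : Br S) (x : BrField q) :
    ∃ d : BrNorm q, d ≠ 0 ∧ ∀ R : Ideal (BrNorm q), d ∉ R →
      ∃ n s : BrNorm q, s ∉ R ∧ (s : BrField q) * x = (n : BrField q) := by
  obtain ⟨n, d, hd, hnd⟩ := IsFractionRing.div_surjective (BrNorm q) x
  have h0 := IsFractionRing.to_map_ne_zero_of_mem_nonZeroDivisors (K := BrField q) hd
  refine ⟨d, nonZeroDivisors.ne_zero hd, fun R hR => ⟨n, d, hR, ?_⟩⟩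
  rw [← algebraMap_brNorm, ← algebraMap_brNorm, ← hnd, mul_div_cancel₀ _ h0]

/-- A conductor element. -/
theorem exists_conductor (q : Br S) :
    ∃ f : S, f ∉ q.1 ∧ ∀ y : BrNorm q, ∃ c : S, toNorm q c = toNorm q f * y := by
  classical
  obtain ⟨G, hG⟩ := (instFiniteBrNorm q).fg_top
  obtain ⟨⟨b, hb⟩, hbG⟩ := IsLocalization.exist_integer_multiples_of_finset (nonZeroDivisors (S ⧸ q.1))
    (G.image fun y : BrNorm q => (y : BrField q))
  obtain ⟨f, rfl⟩ := Ideal.Quotient.mk_surjective b
  refine ⟨f, fun hf => nonZeroDivisors.ne_zero hb (Ideal.Quotient.eq_zero_iff_mem.2 hf), fun y => ?_⟩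
  have hy : y ∈ Submodule.span (S ⧸ q.1) (G : Set (BrNorm q)) := hG ▸ Submodule.mem_top
  induction hy using Submodule.span_induction with
  | mem y hy =>
    obtain ⟨z, hz⟩ := hbG _ (Finset.mem_image_of_mem _ hy)
    obtain ⟨c, rfl⟩ := Ideal.Quotient.mk_surjective z
    refine ⟨c, Subtype.ext ?_⟩
    show algebraMap (S ⧸ q.1) (BrField q) (Ideal.Quotient.mk q.1 c) = _
    rw [hz, Algebra.smul_def]
    rfl
  | zero => exact ⟨0, by simp⟩
  | add y z _ _ hy hz =>
    obtain ⟨c, hc⟩ := hy; obtain ⟨c', hc'⟩ := hz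
    exact ⟨c + c', by rw [map_add, hc, hc', mul_add]⟩
  | smul r y _ hy =>
    obtain ⟨c, hc⟩ := hy
    obtain ⟨r', rfl⟩ := Ideal.Quotient.mk_surjective r
    refine ⟨r' * c, ?_⟩
    rw [map_mul, hc, Algebra.smul_def]
    show toNorm q r' * (toNorm q f * y) = toNorm q f * (toNorm q r' * y)
    ring

/-- An element in all the other branches. -/
theorem exists_sep (q : Br S) : ∃ e : S, e ∉ q.1 ∧ ∀ q' : Br S, q' ≠ q → e ∈ q'.1 := by
  classical
  haveI := Fintype.ofFinite (Br S)
  have : ∀ q' : Br S, ∃ e : S, e ∉ q.1 ∧ (q' ≠ q → e ∈ q'.1) := by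
    intro q'
    by_cases h : q' = q
    · exact ⟨1, fun h1 => q.2.1.1.ne_top ((Ideal.eq_top_iff_one _).2 h1), fun h' => absurd h h'⟩
    · obtain ⟨e, he, he'⟩ := SetLike.not_le_iff_exists.1 (fun hle : q'.1 ≤ q.1 =>
        h (Subtype.ext (le_antisymm hle (q.2.2 ⟨q'.2.1.1, bot_le⟩ hle))))
      exact ⟨e, he', fun _ => he⟩
  choose e he he' using this
  refine ⟨∏ q', e q', fun hp => ?_, fun q' hq' => Ideal.prod_mem _ (Finset.mem_univ q') (he' q' hq')⟩
  obtain ⟨q', -, hq'⟩ := (Ideal.IsPrime.prod_mem_iff (p := q.1)).1 hp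
  exact he q' hq'

section good

variable (q : Br S) (R : Ideal (BrNorm q)) [R.IsPrime] (f e : S)

theorem eq_of_lt_comap (hR : R.height = 1) (hfy : ∀ y : BrNorm q, ∃ c : S, toNorm q c = toNorm q f * y)
    (he : ∀ q' : Br S, q' ≠ q → e ∈ q'.1) (hfR : toNorm q f ∉ R) (heR : toNorm q e ∉ R)
    (Q' : Ideal S) [Q'.IsPrime] (hlt : Q' < R.comap (toNorm q)) : Q' = q.1 := by
  obtain ⟨q', hq', hq'le⟩ := Ideal.exists_minimalPrimes_le (bot_le : (⊥ : Ideal S) ≤ Q')
  have hqq : (⟨q', hq'⟩ : Br S) = q := by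
    by_contra hne
    exact heR (hlt.le (hq'le (he _ hne)))
  have hle : q.1 ≤ Q' := by rw [← hqq]; exact hq'le
  refine le_antisymm ?_ hle
  by_contra hnot
  let Q1 : Ideal (S ⧸ q.1) := Q'.map (Ideal.Quotient.mk q.1)
  haveI : Q1.IsPrime := Ideal.map_isPrime_of_surjective Ideal.Quotient.mk_surjective (by rwa [Ideal.mk_ker])
  have hQ1c : Q1.comap (Ideal.Quotient.mk q.1) = Q' := by
    rw [Ideal.comap_map_of_surjective _ Ideal.Quotient.mk_surjective, ← RingHom.ker_eq_comap_bot, Ideal.mk_ker,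
      sup_eq_left]
    exact hle
  obtain ⟨R1, hR1, hR1c⟩ := Ideal.exists_ideal_over_prime_of_isIntegral_of_isDomain (S := BrNorm q) Q1 (by
    rw [(RingHom.injective_iff_ker_eq_bot _).1 (FaithfulSMul.algebraMap_injective (S ⧸ q.1) (BrNorm q))]
    exact bot_le)
  haveI := hR1
  have hR1Q : R1.comap (toNorm q) = Q' := by
    rw [toNorm, ← Ideal.comap_comap, hR1c, hQ1c]
  have hR1R : R1 ≤ R := fun y hy => by
    obtain ⟨c, hc⟩ := hfy y
    have hcQ : c ∈ Q' := by
      rw [← hR1Q, Ideal.mem_comap, hc]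
      exact R1.mul_mem_left _ hy
    have hcR : toNorm q f * y ∈ R := hc ▸ (hlt.le hcQ)
    exact ((inferInstance : R.IsPrime).mem_or_mem hcR).resolve_left hfR
  have hR1ne : R1 ≠ ⊥ := fun h => hnot fun c hc => by
    rw [← hR1Q, h, Ideal.mem_comap, Ideal.mem_bot] at hc
    exact (toNorm_eq_zero q).1 hc
  have hlt1 : R1 < R := lt_of_le_of_ne hR1R fun h => hlt.ne (by rw [← hR1Q, h])
  have h0 := (Ideal.height_le_iff (p := R) (n := 1)).1 hR.le R1 hR1 hlt1
  rw [Nat.cast_one, Order.lt_one_iff, Ideal.height_eq_zero_iff, IsDomain.minimalPrimes_eq_singleton_bot (BrNorm q),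
    Set.mem_singleton_iff] at h0
  exact hR1ne h0

theorem height_comap_le (hR : R.height = 1) (hfy : ∀ y : BrNorm q, ∃ c : S, toNorm q c = toNorm q f * y)
    (he : ∀ q' : Br S, q' ≠ q → e ∈ q'.1) (hfR : toNorm q f ∉ R) (heR : toNorm q e ∉ R) :
    ((R.comap (toNorm q)).comap (algebraMap A S)).height ≤ 1 := by
  refine (Ideal.height_le_iff (n := 1)).2 fun p' hp' hlt => ?_
  haveI := hp'
  haveI : (R.comap (toNorm q)).LiesOver ((R.comap (toNorm q)).comap (algebraMap A S)) := ⟨rfl⟩
  obtain ⟨Q', hQ'lt, hQ'p, hQ'o⟩ := Ideal.exists_ideal_lt_liesOver_of_lt (R.comap (toNorm q)) hlt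
  have hp0 : p' = ⊥ := by
    rw [eq_bot_iff]
    intro a ha
    refine Ideal.mem_bot.2 (eq_zero_of_mem_br q ?_)
    haveI := hQ'p
    rw [← eq_of_lt_comap q R f e hR hfy he hfR heR Q' hQ'lt]
    exact (hQ'o.over ▸ ha : a ∈ Q'.under A)
  rw [hp0, Ideal.height_bot, Nat.cast_one]
  exact zero_lt_one

theorem exists_smul_isIntegral (hfy : ∀ y : BrNorm q, ∃ c : S, toNorm q c = toNorm q f * y)
    (he : ∀ q' : Br S, q' ≠ q → e ∈ q'.1) (hfR : toNorm q f ∉ R) (heR : toNorm q e ∉ R)
    (x : K) (n s : BrNorm q) (hs : s ∉ R) (hns : (s : BrField q) * fracToBr (K := K) A q x = (n : BrField q)) :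
    ∃ t : A, algebraMap A S t ∉ R.comap (toNorm q) ∧ IsIntegral A (algebraMap A K t * x) := by
  classical
  set Q := R.comap (toNorm q)
  obtain ⟨a, b, hb, rfl⟩ := IsFractionRing.div_surjective A x
  obtain ⟨cn, hcn⟩ := hfy n
  obtain ⟨cs, hcs⟩ := hfy s
  have hcsQ : cs ∉ Q := fun h => by
    have : toNorm q f * s ∈ R := hcs ▸ h
    exact ((inferInstance : R.IsPrime).mem_or_mem this).elim hfR hs
  have hbL := toBr_algebraMap_ne_zero q (nonZeroDivisors.ne_zero hb)
  have hrel : cs * algebraMap A S a - cn * algebraMap A S b ∈ q.1 := by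
    rw [map_div₀, fracToBr_algebraMap, fracToBr_algebraMap] at hns
    have h1 : toBr q cs = toBr q f * (s : BrField q) := congrArg Subtype.val hcs
    have h2 : toBr q cn = toBr q f * (n : BrField q) := congrArg Subtype.val hcn
    rw [← toBr_eq_zero, map_sub, map_mul, map_mul, sub_eq_zero, h1, h2, ← hns]
    field_simp
  let σ := cs * e
  have hσ : σ ∉ Q := fun h => ((inferInstance : Q.IsPrime).mem_or_mem h).elim hcsQ heR
  have hnil : IsNilpotent (σ * algebraMap A S a - cn * e * algebraMap A S b) := by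
    rw [← mem_nilradical, nilradical, Ideal.zero_eq_bot, ← Ideal.sInf_minimalPrimes]
    refine Ideal.mem_sInf.2 fun {q'} hq' => ?_
    rw [show σ * algebraMap A S a - cn * e * algebraMap A S b =
      e * (cs * algebraMap A S a - cn * algebraMap A S b) by ring]
    by_cases hqq : (⟨q', hq'⟩ : Br S) = q
    · exact Ideal.mul_mem_left _ _ ((show q.1 = q' from (congrArg Subtype.val hqq).symm) ▸ hrel)
    · exact Ideal.mul_mem_right _ _ (he _ hqq)
  obtain ⟨M, hM⟩ := hnil
  have hM0 : 0 < M := by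
    rcases Nat.eq_zero_or_pos M with h0 | h0
    · exfalso
      rw [h0, pow_zero] at hM
      exact one_ne_zero hM
    · exact h0
  have hmem := mem_relIdeal_of_sub_pow_eq_zero _ _ M hM
  have hmem' : σ ^ M * algebraMap A S (a ^ M) ∈ (relIdeal a b M).map (algebraMap A S) := by
    rw [map_pow, ← mul_pow, map_relIdeal]
    refine (Ideal.span_le.2 ?_) hmem
    rintro _ ⟨k, rfl⟩
    simp only [SetLike.mem_coe]
    rw [mul_pow σ, mul_pow (cn * e),
      show σ ^ (k : ℕ) * algebraMap A S a ^ (k : ℕ) *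
          ((cn * e) ^ (M - (k : ℕ)) * algebraMap A S b ^ (M - (k : ℕ))) =
        σ ^ (k : ℕ) * (cn * e) ^ (M - (k : ℕ)) *
          (algebraMap A S a ^ (k : ℕ) * algebraMap A S b ^ (M - (k : ℕ))) by ring]
    exact Ideal.mul_mem_left _ _ (Ideal.subset_span ⟨k, rfl⟩)
  have hcol := mem_map_colon (relIdeal a b M) (a ^ M) (σ ^ M) hmem'
  obtain ⟨t, htI, htp⟩ := SetLike.not_le_iff_exists.1 (fun hle : (LinearMap.ker (LinearMap.toSpanSingleton A
      (A ⧸ relIdeal a b M) (Ideal.Quotient.mk (relIdeal a b M) (a ^ M))) : Ideal A) ≤ Q.comap (algebraMap A S) =>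
    hσ ((inferInstance : Q.IsPrime).mem_of_pow_mem _ (Ideal.map_le_iff_le_comap.2 hle hcol)))
  have htJ : t * a ^ M ∈ relIdeal a b M := by
    rw [← Ideal.Quotient.eq_zero_iff_mem, map_mul]
    have : t • Ideal.Quotient.mk (relIdeal a b M) (a ^ M) = 0 := htI
    rwa [Algebra.smul_def] at this
  have hfinal : (t * a) ^ M ∈ relIdeal (t * a) b M := by
    obtain ⟨c, hc⟩ := Ideal.mem_span_range_iff_exists_fun.1 htJ
    obtain ⟨M', rfl⟩ : ∃ M', M = M' + 1 := ⟨M - 1, by omega⟩
    rw [mul_pow, pow_succ t M', mul_assoc, ← hc, Finset.mul_sum]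
    refine Ideal.sum_mem _ fun k _ => ?_
    rw [show t ^ M' * (c k * (a ^ (k : ℕ) * b ^ (M' + 1 - (k : ℕ)))) =
      (t ^ (M' - (k : ℕ)) * c k) * ((t * a) ^ (k : ℕ) * b ^ (M' + 1 - (k : ℕ))) by
        have hp : t ^ M' = t ^ (M' - (k : ℕ)) * t ^ (k : ℕ) := by
          rw [← pow_add, Nat.sub_add_cancel (Nat.lt_succ_iff.1 k.2)]
        rw [hp, mul_pow]
        ring]
    exact Ideal.mul_mem_left _ _ (Ideal.subset_span ⟨k, rfl⟩)
  refine ⟨t, htp, ?_⟩
  have := isIntegral_of_mem_relIdeal (K := K) (t * a) b M (IsFractionRing.to_map_ne_zero_of_mem_nonZeroDivisors hb) hfinal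
  rwa [map_mul, mul_div_assoc] at this

end good

end MoriNagata
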