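import Groth.Agent.Lib.MoriNagata2.Branch

/-!
# The discrete valuations of a Noetherian local domain coming from the normalised completion
-/

set_option autoImplicit false

open scoped WithZero
open IsLocalRing

universe u

namespace MoriNagata

section

/-- The height one primes of the normalised branches. -/
abbrev HBr (S : Type u) [CommRing S] [IsNoetherianRing S] [IsLocalRing S] [IsAdicComplete (maximalIdeal S) S] : Type u := Σ q : Br S, {R : Ideal (BrNorm q) // R.IsPrime ∧ R.height = 1}

theorem hBr_finite (S : Type u) [CommRing S] [IsNoetherianRing S] [IsLocalRing S] [IsAdicComplete (maximalIdeal S) S] {d : ∀ q : Br S, BrNorm q} (hd : ∀ q, d q ≠ 0) :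
    {j : HBr S | d j.1 ∈ j.2.1}.Finite := by
  refine ((Set.finite_univ (α := Br S)).biUnion fun q _ =>
    ((finite_height_one_mem (hd q)).preimage (f := Subtype.val) Subtype.val_injective.injOn).image
      (fun R : {R : Ideal (BrNorm q) // R.IsPrime ∧ R.height = 1} => (⟨q, R⟩ : HBr S))).subset ?_
  rintro ⟨q, R⟩ hR
  exact Set.mem_iUnion₂.2 ⟨q, Set.mem_univ q, R, ⟨R.2.1, R.2.2, hR⟩, rfl⟩

/-- The maximal ideals of the integral closure are among the centres of the branches. -/
theorem finite_maximal (A K S : Type u) [CommRing A] [IsDomain A] [Field K] [Algebra A K] [IsFractionRing A K]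
  [CommRing S] [IsNoetherianRing S] [IsLocalRing S] [IsAdicComplete (maximalIdeal S) S]
  [Algebra A S] [Module.FaithfullyFlat A S] :
    {M : Ideal (integralClosure A K) | M.IsMaximal}.Finite := by
  classical
  haveI := Fintype.ofFinite (Br S)
  let g : ∀ q : Br S, integralClosure A K →+* BrNorm q := fun q => fracToNorm A q
  let Mq : Br S → Ideal (integralClosure A K) := fun q =>
    (@IsLocalRing.maximalIdeal (BrNorm q) _ (isLocalRing_brNorm q)).comap (g q)
  refine (Set.finite_range Mq).subset fun M hM => ?_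
  have hMm : M.IsMaximal := hM
  by_contra hnot
  obtain ⟨q₀⟩ : Nonempty (Br S) := by
    obtain ⟨q, hq, -⟩ := Ideal.exists_minimalPrimes_le (bot_le : (⊥ : Ideal S) ≤ maximalIdeal S)
    exact ⟨⟨q, hq⟩⟩
  have hp : ∀ q : Br S, (Mq q).IsPrime := fun q =>
    Ideal.IsPrime.comap (hK := (@IsLocalRing.maximalIdeal.isMaximal (BrNorm q) _ (isLocalRing_brNorm q)).isPrime) (g q)
  have hMle : ¬ (M : Set (integralClosure A K)) ⊆
      ⋃ q ∈ ((Finset.univ : Finset (Br S)) : Set (Br S)), (Mq q : Set (integralClosure A K)) := by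
    rw [Ideal.subset_union_prime q₀ q₀ (fun q _ _ _ => hp q)]
    rintro ⟨q, -, hle⟩
    exact hnot ⟨q, (hMm.eq_of_le (hp q).ne_top hle).symm⟩
  obtain ⟨y, hyM, hyn⟩ := Set.not_subset.1 hMle
  simp only [Finset.coe_univ, Set.mem_univ, Set.iUnion_true, Set.mem_iUnion, not_exists] at hyn
  have hunit : ∀ q, IsUnit (g q y) := fun q => by
    have h := hyn q
    rw [SetLike.mem_coe, Ideal.mem_comap] at h
    exact (@IsLocalRing.notMem_maximalIdeal (BrNorm q) _ (isLocalRing_brNorm q) _).1 h
  have hmul : ∀ q : Br S, ∃ z : BrNorm q, fracToBr (K := K) A q (y : K) * (z : BrField q) = 1 := fun q => by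
    obtain ⟨z, hz⟩ := (hunit q).exists_right_inv
    exact ⟨z, congrArg Subtype.val hz⟩
  have hy0 : (y : K) ≠ 0 := by
    intro h0
    obtain ⟨z, hz⟩ := hmul q₀
    rw [h0, map_zero, zero_mul] at hz
    exact zero_ne_one hz
  have hinv : IsIntegral A (y : K)⁻¹ := isIntegral_of_branches (S := S) fun q => by
    obtain ⟨z, hz⟩ := hmul q
    rw [map_inv₀, inv_eq_of_mul_eq_one_right hz]
    exact z.2
  refine hMm.ne_top (Ideal.eq_top_of_isUnit_mem _ hyM ?_)
  exact IsUnit.of_mul_eq_one (⟨_, hinv⟩ : integralClosure A K) (Subtype.ext (mul_inv_cancel₀ hy0))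

/-- A branch valuation away from the exceptional set. -/
theorem good_branch (A K S : Type u) [CommRing A] [IsDomain A] [Field K] [Algebra A K] [IsFractionRing A K]
  [CommRing S] [IsNoetherianRing S] [IsLocalRing S] [IsAdicComplete (maximalIdeal S) S]
  [Algebra A S] [Module.FaithfullyFlat A S]
    (q : Br S) (R : Ideal (BrNorm q)) [R.IsPrime] (hR : R.height = 1) (f e : S)
    (hfy : ∀ y : BrNorm q, ∃ c : S, toNorm q c = toNorm q f * y)
    (he : ∀ q' : Br S, q' ≠ q → e ∈ q'.1) (hfe : toNorm q (f * e) ∉ R)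
    (v : Valuation (BrField q) ℤᵐ⁰)
    (hv : ∀ x : BrField q, v x ≤ 1 ↔ ∃ n s : BrNorm q, s ∉ R ∧ (s : BrField q) * x = (n : BrField q))
    (hvlt : ∀ c : S, v (toBr q c) < 1 ↔ toNorm q c ∈ R)
    (h : ∀ a : A, v.comap (fracToBr (K := K) A q) (algebraMap A K a) ≤ 1) :
    (MoriKrull.centre (v.comap (fracToBr (K := K) A q)) h).height ≤ 1 ∧
      ∀ x, v.comap (fracToBr (K := K) A q) x ≤ 1 →
        ∃ s : A, s ∉ MoriKrull.centre (v.comap (fracToBr (K := K) A q)) h ∧ IsIntegral A (algebraMap A K s * x) := by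
  have hcen : MoriKrull.centre (v.comap (fracToBr (K := K) A q)) h = (R.comap (toNorm q)).comap (algebraMap A S) := by
    ext a
    rw [MoriKrull.mem_centre, Valuation.comap_apply, fracToBr_algebraMap]
    exact hvlt _
  rw [hcen]
  have hmap : toNorm q (f * e) = toNorm q f * toNorm q e := map_mul (toNorm q) f e
  have hfR : toNorm q f ∉ R := fun hc => hfe (hmap ▸ R.mul_mem_right _ hc)
  have heR : toNorm q e ∉ R := fun hc => hfe (hmap ▸ R.mul_mem_left _ hc)
  refine ⟨height_comap_le q R f e hR hfy he hfR heR, fun x hx => ?_⟩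
  rw [Valuation.comap_apply] at hx
  obtain ⟨n, s, hs, hns⟩ := (hv _).1 hx
  exact exists_smul_isIntegral q R f e hfy he hfR heR x n s hs hns

set_option maxHeartbeats 1000000 in
/-- The discrete valuations cutting out the integral closure of a Noetherian local domain. -/
theorem exists_data (A K S : Type u) [CommRing A] [IsDomain A] [Field K] [Algebra A K] [IsFractionRing A K]
  [CommRing S] [IsNoetherianRing S] [IsLocalRing S] [IsAdicComplete (maximalIdeal S) S]
  [Algebra A S] [Module.FaithfullyFlat A S] :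
    ∃ (ι : Type u) (w : ι → Valuation K ℤᵐ⁰) (hA : ∀ i (a : A), w i (algebraMap A K a) ≤ 1) (F : Finset ι),
      (∀ i, ∃ x : K, 1 < w i x) ∧ (∀ x : K, IsIntegral A x ↔ ∀ i, w i x ≤ 1) ∧
      (∀ x : K, {i | 1 < w i x}.Finite) ∧
      ∀ i ∉ F, (MoriKrull.centre (w i) (hA i)).height ≤ 1 ∧
        ∀ x, w i x ≤ 1 → ∃ s : A, s ∉ MoriKrull.centre (w i) (hA i) ∧ IsIntegral A (algebraMap A K s * x) := by
  classical
  have hv := fun j : HBr S => @exists_brValuation S _ _ _ _ j.1 j.2.1 j.2.2.1 j.2.2.2
  choose v hv hvlt hvint using hv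
  let ι := {j : HBr S // ∃ x : K, 1 < v j (fracToBr A j.1 x)}
  let w : ι → Valuation K ℤᵐ⁰ := fun i => (v i.1).comap (fracToBr A i.1.1)
  have hA : ∀ i (a : A), w i (algebraMap A K a) ≤ 1 := fun i a =>
    hvint i.1 _ (isIntegral_fracToBr i.1.1 isIntegral_algebraMap)
  have hint : ∀ x : K, IsIntegral A x ↔ ∀ i, w i x ≤ 1 := by
    refine fun x => ⟨fun hx i => hvint i.1 _ (isIntegral_fracToBr i.1.1 hx), fun hx => isIntegral_of_branches (S := S) fun q => ?_⟩
    refine isIntegral_brField q _ fun R _ hR => (hv ⟨q, R, ‹R.IsPrime›, hR⟩ _).1 ?_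
    by_contra hlt
    exact hlt (hx ⟨⟨q, R, ‹R.IsPrime›, hR⟩, x, not_le.1 hlt⟩)
  have hfinite : ∀ x : K, {i | 1 < w i x}.Finite := by
    intro x
    choose d hd hdR using fun q : Br S => exists_den q (fracToBr (K := K) A q x)
    refine ((hBr_finite S hd).preimage (f := Subtype.val) Subtype.val_injective.injOn).subset fun i hi => ?_
    by_contra hdi
    have : w i x ≤ 1 := (hv i.1 _).2 (hdR i.1.1 i.1.2.1 hdi)
    exact absurd hi (not_lt.2 this)
  choose f hf hfy using fun q : Br S => exists_conductor q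
  choose e he he' using fun q : Br S => exists_sep q
  have hd : ∀ q : Br S, toNorm q (f q * e q) ≠ 0 := fun q h =>
    ((instPrimeBr q).mem_or_mem ((toNorm_eq_zero q).1 h)).elim (hf q) (he q)
  have hFfin : {i : ι | toNorm i.1.1 (f i.1.1 * e i.1.1) ∈ i.1.2.1}.Finite :=
    (hBr_finite S hd).preimage (f := Subtype.val) Subtype.val_injective.injOn
  refine ⟨ι, w, hA, hFfin.toFinset, fun i => i.2, hint, hfinite, fun i hi => ?_⟩
  have hi' : toNorm i.1.1 (f i.1.1 * e i.1.1) ∉ i.1.2.1 := fun h => hi (hFfin.mem_toFinset.2 h)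
  exact @good_branch A K S _ _ _ _ _ _ _ _ _ _ _ i.1.1 i.1.2.1 i.1.2.2.1 i.1.2.2.2 (f i.1.1) (e i.1.1) (hfy i.1.1) (he' i.1.1) hi'
    (v i.1) (hv i.1) (hvlt i.1) (hA i)

end

/-- Finitely many primes of the integral closure lie over a prime of a Noetherian domain. -/
theorem finite_primesOver (A K : Type u) [CommRing A] [IsDomain A] [IsNoetherianRing A] [Field K] [Algebra A K]
    [IsFractionRing A K] (p : Ideal A) [p.IsPrime] :
    {P : Ideal (integralClosure A K) | P.IsPrime ∧ P.comap (algebraMap A (integralClosure A K)) = p}.Finite := by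
  classical
  let Ap := Localization.AtPrime p
  letI : Algebra Ap K := (IsLocalization.lift (M := p.primeCompl) (g := algebraMap A K) fun y => by
    refine IsUnit.mk0 _ ((map_ne_zero_iff _ (IsFractionRing.injective A K)).2 ?_)
    exact fun h => y.2 (by rw [h]; exact zero_mem _)).toAlgebra
  haveI : IsScalarTower A Ap K := IsScalarTower.of_algebraMap_eq fun r => (IsLocalization.lift_eq _ r).symm
  haveI : IsFractionRing Ap K := IsFractionRing.isFractionRing_of_isDomain_of_isLocalization p.primeCompl Ap K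
  let B := integralClosure A K
  let Bp := integralClosure Ap K
  let S := AdicCompletion (maximalIdeal Ap) Ap
  haveI : IsLocalHom (algebraMap Ap S) := inferInstance
  haveI : Module.FaithfullyFlat Ap S := Module.FaithfullyFlat.of_flat_of_isLocalHom
  have hfin := finite_maximal Ap K S
  let j : B →+* Bp := (algebraMap B K).codRestrict Bp.toSubring (fun x => IsIntegral.tower_top (A := Ap) x.2)
  refine (hfin.image (fun M => M.comap j)).subset ?_
  rintro P ⟨hP, hPp⟩
  haveI := hP
  have hclear : ∀ y : Bp, ∃ s : A, s ∉ p ∧ IsIntegral A (algebraMap A K s * (y : K)) := by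
    intro y
    obtain ⟨⟨m, hm⟩, hmy⟩ := IsIntegral.exists_multiple_integral_of_isLocalization p.primeCompl (Rₘ := Ap) (y : K) y.2
    refine ⟨m, hm, ?_⟩
    rwa [Submonoid.smul_def, Algebra.smul_def] at hmy
  let I : Ideal Bp :=
    { carrier := {y | ∃ s : A, s ∉ p ∧ ∃ z ∈ P, algebraMap A K s * (y : K) = (z : K)}
      zero_mem' := ⟨1, fun h => Ideal.IsPrime.ne_top ‹_› ((Ideal.eq_top_iff_one _).2 h), 0, zero_mem _, by simp⟩
      add_mem' := by
        rintro a b ⟨s, hs, z, hz, hsz⟩ ⟨s', hs', z', hz', hsz'⟩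
        refine ⟨s * s', fun h => ((inferInstance : p.IsPrime).mem_or_mem h).elim hs hs',
          algebraMap A B s' * z + algebraMap A B s * z', add_mem (P.mul_mem_left _ hz) (P.mul_mem_left _ hz'), ?_⟩
        show algebraMap A K (s * s') * ((a : K) + (b : K)) = algebraMap A K s' * (z : K) + algebraMap A K s * (z' : K)
        rw [← hsz, ← hsz', map_mul]; ring
      smul_mem' := by
        rintro c a ⟨s, hs, z, hz, hsz⟩
        obtain ⟨t, ht, htc⟩ := hclear c
        refine ⟨t * s, fun h => ((inferInstance : p.IsPrime).mem_or_mem h).elim ht hs, (⟨_, htc⟩ : B) * z,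
          P.mul_mem_left _ hz, ?_⟩
        show algebraMap A K (t * s) * ((c : K) * (a : K)) = (algebraMap A K t * (c : K)) * (z : K)
        rw [← hsz, map_mul]; ring }
  have hne : I ≠ ⊤ := fun h => by
    obtain ⟨s, hs, z, hz, hsz⟩ : ∃ s : A, s ∉ p ∧ ∃ z ∈ P, algebraMap A K s * ((1 : Bp) : K) = (z : K) :=
      (Ideal.eq_top_iff_one _).1 h
    refine hs ?_
    rw [← hPp, Ideal.mem_comap]
    have : algebraMap A B s = z := Subtype.ext (by
      rw [OneMemClass.coe_one, mul_one] at hsz; exact hsz)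
    exact this ▸ hz
  obtain ⟨M, hM, hIM⟩ := Ideal.exists_le_maximal I hne
  refine ⟨M, hM, ?_⟩
  haveI := hM
  have hle : P ≤ M.comap j := fun z hz => hIM ⟨1, fun h => Ideal.IsPrime.ne_top ‹_› ((Ideal.eq_top_iff_one _).2 h),
    z, hz, by rw [map_one, one_mul]; rfl⟩
  haveI : Algebra.IsIntegral Ap Bp := inferInstance
  have hMp : (M.comap j).comap (algebraMap A B) = p := by
    have h1 : (M.comap (algebraMap Ap Bp)).IsMaximal := Ideal.isMaximal_comap_of_isIntegral_of_isMaximal M
    rw [Ideal.comap_comap, show j.comp (algebraMap A B) = (algebraMap Ap Bp).comp (algebraMap A Ap) from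
      RingHom.ext fun a => Subtype.ext (IsScalarTower.algebraMap_apply A Ap K a), ← Ideal.comap_comap,
      IsLocalRing.eq_maximalIdeal h1]
    exact IsLocalization.AtPrime.under_maximalIdeal Ap p
  rcases eq_or_lt_of_le hle with h | h
  · exact h.symm
  · exfalso
    have := Ideal.IsIntegral.comap_lt_comap (R := A) h
    rw [hPp, hMp] at this
    exact lt_irrefl _ this

end MoriNagata
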